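import Mathlib

/-!
# A directed family of subschemes containing all infinitesimal neighbourhoods

Local lifting criterion for an immersion at a point, and spreading out.
-/

set_option autoImplicit false

universe u

open CategoryTheory CategoryTheory.Limits AlgebraicGeometry

namespace Groth.Agent.FormalExh93

variable {X Y : Scheme.{u}} (x : Y ⟶ X)

/-- The locus over which `x` is an isomorphism. -/
def isoLocus : X.Opens := ⨆ V : {V : X.Opens // IsIso (x ∣_ V)}, V.1

lemma mem_isoLocus {z : X} : z ∈ isoLocus x ↔ ∃ V : X.Opens, z ∈ V ∧ IsIso (x ∣_ V) := by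
  rw [isoLocus, TopologicalSpace.Opens.mem_iSup]
  exact ⟨fun ⟨V, hV⟩ => ⟨V.1, hV, V.2⟩, fun ⟨V, hV, h⟩ => ⟨⟨V, h⟩, hV⟩⟩

/-- A section over an open of a monomorphism gives an isomorphism there. -/
lemma isIso_restrict_of_section [Mono x] {V : X.Opens} (t : V.toScheme ⟶ Y) (ht : t ≫ x = V.ι) :
    IsIso (x ∣_ V) := by
  have hp : IsPullback (x ∣_ V) (x ⁻¹ᵁ V).ι V.ι x := isPullback_morphismRestrict x V
  let s : V.toScheme ⟶ (x ⁻¹ᵁ V).toScheme := hp.lift (𝟙 _) t (by rw [ht, Category.id_comp])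
  have hs : s ≫ (x ∣_ V) = 𝟙 _ := hp.lift_fst _ _ _
  haveI : Mono (x ∣_ V) := hp.mono_fst_of_mono
  exact ⟨⟨s, (cancel_mono (x ∣_ V)).1 (by rw [Category.assoc, hs, Category.comp_id, Category.id_comp]), hs⟩⟩

lemma isoLocus_mono {Y' : Scheme.{u}} (x' : Y' ⟶ X) [Mono x'] (t : Y ⟶ Y') (ht : t ≫ x' = x) :
    isoLocus x ≤ isoLocus x' := by
  intro z hz
  obtain ⟨V, hzV, hV⟩ := (mem_isoLocus x).1 hz
  refine (mem_isoLocus x').2 ⟨V, hzV, isIso_restrict_of_section x' (inv (x ∣_ V) ≫ (x ⁻¹ᵁ V).ι ≫ t) ?_⟩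
  rw [Category.assoc, Category.assoc, ht, ← morphismRestrict_ι, IsIso.inv_hom_id_assoc]

lemma isIso_of_isoLocus_eq_top (h : isoLocus x = ⊤) : IsIso x :=
  (IsZariskiLocalAtTarget.iff_of_iSup_eq_top (P := MorphismProperty.isomorphisms Scheme)
    (fun V : {V : X.Opens // IsIso (x ∣_ V)} => V.1) h).2 fun V => V.2

lemma mem_isoLocus_of_lift [IsLocallyNoetherian X] [IsImmersion x] (z : X)
    (l : Spec (X.presheaf.stalk z) ⟶ Y) (hl : l ≫ x = X.fromSpecStalk z) : z ∈ isoLocus x := by
  obtain ⟨U, hzU, g, -, hg⟩ := spread_out_of_isGermInjective' (𝟙 X) x l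
    (by rw [hl, Category.comp_id])
  exact (mem_isoLocus x).2 ⟨U, hzU, isIso_restrict_of_section x g (by rw [hg, Category.comp_id])⟩

/-- An immersion into the spectrum of a local ring whose range contains the closed point is closed. -/
lemma isClosedImmersion_of_closedPoint_mem {R : CommRingCat.{u}} [IsLocalRing R] {P : Scheme.{u}}
    (q : P ⟶ Spec R) [IsImmersion q] (h : IsLocalRing.closedPoint R ∈ Set.range q) :
    IsClosedImmersion q := by
  have htop : q.coborderRange = ⊤ := by
    obtain ⟨y, hy⟩ := h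
    refine top_le_iff.1 fun p _ => (IsLocalRing.specializes_closedPoint p).mem_open q.coborderRange.2 ?_
    rw [← hy]
    have h := congrArg (fun g : P ⟶ Spec R => g y) q.liftCoborder_ι
    exact h ▸ (q.liftCoborder y).2
  haveI : IsIso q.coborderRange.ι := by
    rw [htop, ← Scheme.topIso_hom]
    infer_instance
  rw [← q.liftCoborder_ι]
  infer_instance

/-- The ideal of an immersion at a point of its range: morphisms to the local scheme factor iff they kill it. -/
lemma exists_ideal [IsImmersion x] (z : X) (hz : z ∈ Set.range x) :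
    ∃ J : Ideal (X.presheaf.stalk z),
      (∀ {T : CommRingCat.{u}} (ψ : X.presheaf.stalk z ⟶ T) (l : Spec T ⟶ Y),
        l ≫ x = Spec.map ψ ≫ X.fromSpecStalk z → J ≤ RingHom.ker ψ.hom) ∧
      ∃ l : Spec (CommRingCat.of (X.presheaf.stalk z ⧸ J)) ⟶ Y,
        l ≫ x = Spec.map (CommRingCat.ofHom (Ideal.Quotient.mk J)) ≫ X.fromSpecStalk z := by
  have hmem : IsLocalRing.closedPoint (X.presheaf.stalk z) ∈
      Set.range (pullback.fst (X.fromSpecStalk z) x) := by
    rw [Scheme.Pullback.range_fst]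
    show X.fromSpecStalk z (IsLocalRing.closedPoint _) ∈ Set.range x
    rw [Scheme.fromSpecStalk_closedPoint]
    exact hz
  haveI := isClosedImmersion_of_closedPoint_mem _ hmem
  obtain ⟨J, e, he⟩ := IsClosedImmersion.Spec_iff.1
    (inferInstance : IsClosedImmersion (pullback.fst (X.fromSpecStalk z) x))
  refine ⟨J, ?_, e.inv ≫ pullback.snd _ _, ?_⟩
  · intro T ψ l hl a ha
    let g : Spec T ⟶ Spec (CommRingCat.of (X.presheaf.stalk z ⧸ J)) := pullback.lift (Spec.map ψ) l hl.symm ≫ e.hom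
    have hg : g ≫ Spec.map (CommRingCat.ofHom (Ideal.Quotient.mk J)) = Spec.map ψ := by
      rw [Category.assoc, ← he, pullback.lift_fst]
    have h2 : CommRingCat.ofHom (Ideal.Quotient.mk J) ≫ Spec.preimage g = ψ :=
      Spec.map_injective (by rw [Spec.map_comp, Spec.map_preimage, hg])
    rw [RingHom.mem_ker, ← h2]
    show (Spec.preimage g).hom (Ideal.Quotient.mk J a) = 0
    rw [Ideal.Quotient.eq_zero_iff_mem.2 ha, map_zero]
  · rw [Category.assoc, ← pullback.condition, ← Category.assoc, he, e.inv_hom_id_assoc]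

/-- An ideal of a Noetherian local ring vanishing on the punctured spectrum meets a high power of the maximal
ideal in zero (Artin-Rees). -/
lemma exists_pow_inf_eq_bot {R : Type u} [CommRing R] [IsLocalRing R] [IsNoetherianRing R] (J : Ideal R)
    (h : ∀ p : PrimeSpectrum R, p ≠ IsLocalRing.closedPoint R → ∀ a ∈ J, ∃ s ∉ p.asIdeal, s * a = 0) :
    ∃ n : ℕ, ∀ J' : Ideal R, J' ≤ J → J' ≤ IsLocalRing.maximalIdeal R ^ (n + 1) → J' = ⊥ := by
  classical
  obtain ⟨S, hS⟩ : J.FG := IsNoetherian.noetherian J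
  have hrad : IsLocalRing.maximalIdeal R ≤ (Submodule.annihilator J).radical := by
    rw [Ideal.radical_eq_sInf]
    refine le_sInf fun p ⟨hp, hpp⟩ => ?_
    by_contra hne
    have hp' : (⟨p, hpp⟩ : PrimeSpectrum R) ≠ IsLocalRing.closedPoint R :=
      fun e => hne (le_of_eq (congrArg PrimeSpectrum.asIdeal e).symm)
    choose s hs hs' using fun a : S => h ⟨p, hpp⟩ hp' a (hS ▸ Submodule.subset_span a.2)
    have hprod : (∏ a : S, s a) ∈ Submodule.annihilator J := by
      rw [← hS, Submodule.mem_annihilator_span]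
      intro a
      rw [smul_eq_mul, ← Finset.prod_erase_mul _ _ (Finset.mem_univ (⟨a.1, a.2⟩ : S)), _root_.mul_assoc]
      exact (congrArg (_ * ·) (hs' a)).trans (mul_zero _)
    obtain ⟨a, -, ha⟩ := hpp.prod_mem_iff.1 (hp hprod)
    exact hs a ha
  obtain ⟨N, hN⟩ := Ideal.exists_pow_le_of_le_radical_of_fg_radical hrad (IsNoetherian.noetherian _)
  obtain ⟨k, hk⟩ := Ideal.exists_pow_inf_eq_pow_smul (IsLocalRing.maximalIdeal R) (M := R) J
  refine ⟨k + N, fun J' h1 h2 => le_bot_iff.1 ((le_inf h2 h1).trans ?_)⟩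
  have := hk (k + N + 1) (by omega)
  rw [show ∀ n : ℕ, IsLocalRing.maximalIdeal R ^ n • (⊤ : Submodule R R) = IsLocalRing.maximalIdeal R ^ n from
    fun n => (smul_eq_mul _ _).trans (Ideal.mul_top _)] at this
  rw [this]
  refine (Submodule.smul_mono (Ideal.pow_le_pow_right (show N ≤ k + N + 1 - k by omega)) inf_le_right).trans ?_
  refine (Submodule.smul_mono hN le_rfl).trans ?_
  exact Submodule.smul_le.2 fun a ha y hy => (Submodule.mem_bot R).2 (Submodule.mem_annihilator.1 ha y hy)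

end Groth.Agent.FormalExh93
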